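import Cfsg.Agent.Spor.Suz22880.S.D0

set_option autoImplicit false
set_option maxRecDepth 100000000
set_option Elab.async false

namespace Cfsg.Agent.Spor.Suz22880.S

theorem gr4 : sub M3 (U.growI W2 [0, 1, 2, 3, 4, 5, 4, 2, 1, 0, 1, 2, 3, 4, 5] (Nat.shiftLeft 1 7122)) = true := by decide +kernel

theorem sd6 : U.sends [9, 7, 5, 3, 7, 5, 7, 9, 7, 5, 7, 11, 13, 3, 5, 7, 9] 0 7122 = true := by decide +kernel

theorem gr7 : sub (ones 22880) (U.growI ([9, 7, 5, 3, 7, 5, 7, 9, 7, 5, 7, 11, 13, 3, 5, 7, 9] :: W2) [0, 1, 2, 3, 4, 5, 6, 5, 3, 2, 1, 0, 0, 1, 2, 3, 4, 5, 6, 5, 3, 2, 1, 0, 0, 1, 2, 3, 4] (Nat.shiftLeft 1 0)) = true := by decide +kernel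

theorem cl9 : band (U.closedW W2 M3) (sub (Nat.shiftLeft 1 7122) M3) = true := by decide +kernel

theorem sz10 : sizeOk 15 M3 280 = true := by decide +kernel

theorem gr13 : sub M12 (U.growI W2 [3, 2, 1, 0, 1, 2, 3, 4, 5, 2, 1, 0, 1, 2, 3, 4, 5, 4, 2, 1, 0, 3] (Nat.shiftLeft 1 1)) = true := by decide +kernel

theorem sd15 : U.sends [9] 0 1 = true := by decide +kernel

theorem gr16 : sub (ones 22880) (U.growI ([9] :: W2) [0, 4, 3, 2, 1, 2, 3, 4, 5, 6, 3, 2, 1, 0, 2, 3, 4, 5, 6, 5, 3, 2, 1, 0, 2, 3, 4, 5, 6, 5, 3, 2, 1, 0, 2, 3, 4, 5, 6, 3, 2, 0] (Nat.shiftLeft 1 0)) = true := by decide +kernel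

theorem cl18 : band (U.closedW W2 M12) (sub (Nat.shiftLeft 1 1) M12) = true := by decide +kernel

theorem sz19 : sizeOk 15 M12 486 = true := by decide +kernel

theorem gr22 : sub M21 (U.growI W2 [1, 2, 3, 4, 5, 4, 2, 1, 0, 1, 2, 3, 4, 5, 4, 2, 1, 0, 1, 2, 3, 4, 5, 4, 2, 1, 0, 1, 2] (Nat.shiftLeft 1 10)) = true := by decide +kernel

theorem sd24 : U.sends [9, 7, 5, 7, 9] 0 10 = true := by decide +kernel

theorem gr25 : sub (ones 22880) (U.growI ([9, 7, 5, 7, 9] :: W2) [0, 2, 3, 4, 5, 6, 5, 3, 2, 1, 0, 2, 3, 4, 5, 6, 5, 3, 2, 1, 0, 2, 3, 4, 5, 6, 5, 3, 2, 1, 0, 2, 3, 4, 5] (Nat.shiftLeft 1 0)) = true := by decide +kernel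

theorem cl27 : band (U.closedW W2 M21) (sub (Nat.shiftLeft 1 10) M21) = true := by decide +kernel

theorem sz28 : sizeOk 15 M21 8505 = true := by decide +kernel

theorem gr31 : sub M30 (U.growI W2 [0, 1, 3, 4, 5, 4, 2, 1, 0, 1, 2, 3, 4, 5, 4, 2, 1, 0, 1, 2, 3, 4, 5, 4, 2, 1, 0, 1, 2, 3] (Nat.shiftLeft 1 67)) = true := by decide +kernel

theorem sd33 : U.sends [9, 7, 5, 3, 7, 5, 7, 9] 0 67 = true := by decide +kernel

theorem gr34 : sub (ones 22880) (U.growI ([9, 7, 5, 3, 7, 5, 7, 9] :: W2) [0, 1, 2, 4, 5, 6, 5, 3, 2, 1, 0, 1, 2, 3, 4, 5, 6, 5, 3, 2, 1, 0, 1, 2, 3, 4, 5, 6, 5, 3, 2] (Nat.shiftLeft 1 0)) = true := by decide +kernel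

theorem cl36 : band (U.closedW W2 M30) (sub (Nat.shiftLeft 1 67) M30) = true := by decide +kernel

theorem sz37 : sizeOk 15 M30 13608 = true := by decide +kernel

theorem ff39 : U.fixFrom 15 22880 1 = true := by decide +kernel

theorem ff40 : U.fixFrom 15 22880 3 = true := by decide +kernel

theorem ff41 : U.fixFrom 15 22880 5 = true := by decide +kernel

theorem ff42 : U.fixFrom 15 22880 7 = true := by decide +kernel

theorem ff43 : U.fixFrom 15 22880 9 = true := by decide +kernel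

theorem ff44 : U.fixFrom 15 22880 11 = true := by decide +kernel

theorem ff45 : U.fixFrom 15 22880 13 = true := by decide +kernel

end Cfsg.Agent.Spor.Suz22880.S
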