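import Cfsg.Agent.Spor.Prim
import Cfsg.Agent.Spor.Suz22880.Main
import Cfsg.Agent.Spor.Suz22880.S.C0

set_option autoImplicit false
set_option maxRecDepth 100000000
set_option Elab.async false

namespace Cfsg.Agent.Spor.Suz22880.S

theorem hU : U.Ok 15 := U.ok_of 15 (show AllP (fun n => Net.okb 15 n = true) [n0, n1, n2, n3, n4, n5, n6, n7] from AllP.cons ok0 (AllP.cons ok1 (AllP.cons ok2 (AllP.cons ok3 (AllP.cons ok4 (AllP.cons ok5 (AllP.cons ok6 (AllP.cons ok7 (AllP.nil)))))))))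

theorem hfP : ∀ j < 7, U.fP [1, 3, 5, 7, 9, 11, 13] j = fP j := by
  intro j hj
  interval_cases j <;> rfl
theorem eG : gsub 7 fP = U.lsub W1 := (gsub_congr hfP).symm.trans (lsub_eq_gsub U [1, 3, 5, 7, 9, 11, 13])
theorem upz1 : ev (atm 7 fP) [0] = U.τ 1 := pz1
theorem upz3 : ev (atm 7 fP) [2] = U.τ 3 := pz2
theorem upz5 : ev (atm 7 fP) [4] = U.τ 5 := pz3
theorem upz7 : ev (atm 7 fP) [6] = U.τ 7 := pz4
theorem upz9 : ev (atm 7 fP) [8] = U.τ 9 := pz5
theorem upz11 : ev (atm 7 fP) [10] = U.τ 11 := pz6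
theorem upz13 : ev (atm 7 fP) [12] = U.τ 13 := pz7
theorem upz15 : ev (atm 7 fP) [2, 4, 6, 4, 6] = U.τ 15 := pz8
theorem eH : wsub 7 fP BW = U.lsub W2 :=
  lsub_eq_of_all₂ (show List.Forall₂ _ [[0], [2], [4], [6], [10], [12]] [[1], [3], [5], [7], [11], [13]] from List.Forall₂.cons (upz1.trans (one_mul _).symm) (List.Forall₂.cons (upz3.trans (one_mul _).symm) (List.Forall₂.cons (upz5.trans (one_mul _).symm) (List.Forall₂.cons (upz7.trans (one_mul _).symm) (List.Forall₂.cons (upz11.trans (one_mul _).symm) (List.Forall₂.cons (upz13.trans (one_mul _).symm) (List.Forall₂.nil)))))))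
theorem reach5 : Reach (U.lsub W2) 7122 M3 := (Reach.grow hU (Reach.base _ 7122) gr4)
theorem reach8 : Reach (U.lsub ([9, 7, 5, 3, 7, 5, 7, 9, 7, 5, 7, 11, 13, 3, 5, 7, 9] :: W2)) 0 (ones 22880) := (Reach.grow hU (Reach.base _ 0) gr7)
theorem orb11 : (orbS (U.lsub W2) 7122).ncard = 280 := reach5.ncard hU cl9 sz10
theorem orb11e : orbS (U.lsub W2) 7122 = {c | Nat.testBit M3 c = true} := reach5.orb hU cl9
theorem reach14 : Reach (U.lsub W2) 1 M12 := (Reach.grow hU (Reach.base _ 1) gr13)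
theorem reach17 : Reach (U.lsub ([9] :: W2)) 0 (ones 22880) := (Reach.grow hU (Reach.base _ 0) gr16)
theorem orb20 : (orbS (U.lsub W2) 1).ncard = 486 := reach14.ncard hU cl18 sz19
theorem orb20e : orbS (U.lsub W2) 1 = {c | Nat.testBit M12 c = true} := reach14.orb hU cl18
theorem reach23 : Reach (U.lsub W2) 10 M21 := (Reach.grow hU (Reach.base _ 10) gr22)
theorem reach26 : Reach (U.lsub ([9, 7, 5, 7, 9] :: W2)) 0 (ones 22880) := (Reach.grow hU (Reach.base _ 0) gr25)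
theorem orb29 : (orbS (U.lsub W2) 10).ncard = 8505 := reach23.ncard hU cl27 sz28
theorem orb29e : orbS (U.lsub W2) 10 = {c | Nat.testBit M21 c = true} := reach23.orb hU cl27
theorem reach32 : Reach (U.lsub W2) 67 M30 := (Reach.grow hU (Reach.base _ 67) gr31)
theorem reach35 : Reach (U.lsub ([9, 7, 5, 3, 7, 5, 7, 9] :: W2)) 0 (ones 22880) := (Reach.grow hU (Reach.base _ 0) gr34)
theorem orb38 : (orbS (U.lsub W2) 67).ncard = 13608 := reach32.ncard hU cl36 sz37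
theorem orb38e : orbS (U.lsub W2) 67 = {c | Nat.testBit M30 c = true} := reach32.orb hU cl36
noncomputable def X : List SubO := [([9, 7, 5, 3, 7, 5, 7, 9, 7, 5, 7, 11, 13, 3, 5, 7, 9], 7122, M3), ([9], 1, M12), ([9, 7, 5, 7, 9], 10, M21), ([9, 7, 5, 3, 7, 5, 7, 9], 67, M30)]
theorem hX : AllP (SubOk U W2 W1) X :=
  show AllP (SubOk U W2 W1) [([9, 7, 5, 3, 7, 5, 7, 9, 7, 5, 7, 11, 13, 3, 5, 7, 9], 7122, M3), ([9], 1, M12), ([9, 7, 5, 7, 9], 10, M21), ([9, 7, 5, 3, 7, 5, 7, 9], 67, M30)] from AllP.cons ⟨U.mem_letters (by decide), (hU.sends sd6), reach5⟩ (AllP.cons ⟨U.mem_letters (by decide), (hU.sends sd15), reach14⟩ (AllP.cons ⟨U.mem_letters (by decide), (hU.sends sd24), reach23⟩ (AllP.cons ⟨U.mem_letters (by decide), (hU.sends sd33), reach32⟩ (AllP.nil))))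
theorem hXc : subCov 22880 X = true := by decide +kernel
theorem hY : AllP (fun x : SubO => Reach (U.lsub (x.1 :: W2)) 0 (ones 22880)) X :=
  show AllP (fun x : SubO => Reach (U.lsub (x.1 :: W2)) 0 (ones 22880)) [([9, 7, 5, 3, 7, 5, 7, 9, 7, 5, 7, 11, 13, 3, 5, 7, 9], 7122, M3), ([9], 1, M12), ([9, 7, 5, 7, 9], 10, M21), ([9, 7, 5, 3, 7, 5, 7, 9], 67, M30)] from AllP.cons reach8 (AllP.cons reach17 (AllP.cons reach26 (AllP.cons reach35 (AllP.nil))))
theorem hfix : gsub 7 fP ≤ FixFrom 22880 := (gsub_congr hfP).symm.le.trans (hU.gsub_fix (gs := [1, 3, 5, 7, 9, 11, 13]) (AllP.cons ff39 (AllP.cons ff40 (AllP.cons ff41 (AllP.cons ff42 (AllP.cons ff43 (AllP.cons ff44 (AllP.cons ff45 (AllP.nil)))))))))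

end Cfsg.Agent.Spor.Suz22880.S
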